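/-
Rational functions of a scheme via a family of "generic" points.
-/
import Groth.Prelude.Def_RatFun
import Mathlib

set_option autoImplicit false
set_option backward.isDefEq.respectTransparency false
set_option linter.style.haveILetI false

universe u

open AlgebraicGeometry CategoryTheory TopologicalSpace Opposite

namespace Groth.Agent.RatFunLib

variable {X : Scheme.{u}}

instance : Nonempty (RatFun.IsDenseOpen X).FullSubcategory :=
  ⟨⟨⊤, by simp [RatFun.IsDenseOpen]⟩⟩

instance : IsFiltered ((RatFun.IsDenseOpen X).FullSubcategory)ᵒᵖ := by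
  haveI : IsCofiltered (RatFun.IsDenseOpen X).FullSubcategory :=
    { cone_objs := fun A B => ⟨⟨A.1 ⊓ B.1, A.2.inter_of_isOpen_left B.2 A.1.2⟩,
        ObjectProperty.homMk (homOfLE inf_le_left), ObjectProperty.homMk (homOfLE inf_le_right),
        trivial⟩
      cone_maps := fun A B f g => ⟨A, 𝟙 _, ObjectProperty.hom_ext _ (Subsingleton.elim _ _)⟩ }
  infer_instance

lemma exists_rep (z : RatFun.ring X) :
    ∃ (V : X.Opens) (hV : Dense (V : Set X)) (s : Γ(X, V)), RatFun.toRing X V hV s = z := by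
  obtain ⟨j, s, hs⟩ := Limits.Concrete.colimit_exists_rep (RatFun.sectionsOnDense X) z
  exact ⟨j.unop.1, j.unop.2, s, hs⟩

lemma toRing_res {V W : X.Opens} (hV : Dense (V : Set X)) (hW : Dense (W : Set X)) (h : W ≤ V)
    (s : Γ(X, V)) : RatFun.toRing X W hW (X.presheaf.map (homOfLE h).op s) = RatFun.toRing X V hV s :=
  ConcreteCategory.congr_hom (Limits.colimit.w (RatFun.sectionsOnDense X)
    (ObjectProperty.homMk (homOfLE h) : (⟨W, hW⟩ : (RatFun.IsDenseOpen X).FullSubcategory) ⟶ ⟨V, hV⟩).op) s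

lemma exists_res_eq {V : X.Opens} {hV : Dense (V : Set X)} {s t : Γ(X, V)}
    (h : RatFun.toRing X V hV s = RatFun.toRing X V hV t) :
    ∃ (W : X.Opens) (_ : Dense (W : Set X)) (i : W ≤ V),
      X.presheaf.map (homOfLE i).op s = X.presheaf.map (homOfLE i).op t := by
  obtain ⟨k, f, g, hfg⟩ :=
    (Limits.Concrete.colimit_rep_eq_iff_exists (RatFun.sectionsOnDense X)
      (i := op ⟨V, hV⟩) (j := op ⟨V, hV⟩) s t).1 h
  have hgf : g = f := Quiver.Hom.unop_inj (ObjectProperty.hom_ext _ (Subsingleton.elim _ _))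
  rw [hgf] at hfg
  exact ⟨k.unop.1, k.unop.2, leOfHom f.unop.hom, hfg⟩

/-- A family of points with pairwise "separated" neighbourhoods generizing every point. -/
structure GenericFamily (X : Scheme.{u}) where
  /-- index type -/
  ι : Type u
  /-- the points -/
  pt : ι → X
  /-- disjoint neighbourhoods -/
  nhd : ι → X.Opens
  mem : ∀ i, pt i ∈ nhd i
  disj : ∀ i j, i ≠ j → nhd i ⊓ nhd j = ⊥
  specializes : ∀ y : X, ∃ i, pt i ⤳ y

namespace GenericFamily

variable (G : GenericFamily X)

lemma mem_of_dense {V : X.Opens} (hV : Dense (V : Set X)) (i : G.ι) : G.pt i ∈ V := by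
  obtain ⟨y, hy, hyV⟩ := hV.inter_open_nonempty _ (G.nhd i).2 ⟨_, G.mem i⟩
  obtain ⟨j, hj⟩ := G.specializes y
  by_cases hij : i = j
  · subst hij; exact hj.mem_open V.2 hyV
  · exact absurd (show G.pt j ∈ G.nhd i ⊓ G.nhd j from ⟨hj.mem_open (G.nhd i).2 hy, G.mem j⟩)
      (by rw [G.disj i j hij]; exact fun h => h.elim)

lemma dense_of_mem {V : X.Opens} (h : ∀ i, G.pt i ∈ V) : Dense (V : Set X) := fun y => by
  obtain ⟨i, hi⟩ := G.specializes y
  exact closure_mono (Set.singleton_subset_iff.2 (h i)) hi.mem_closure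

/-- Germ at one of the points. -/
noncomputable def germ (i : G.ι) : RatFun.ring X ⟶ X.presheaf.stalk (G.pt i) :=
  Limits.colimit.desc (RatFun.sectionsOnDense X)
    { pt := X.presheaf.stalk (G.pt i)
      ι :=
        { app := fun V => X.presheaf.germ V.unop.1 (G.pt i) (G.mem_of_dense V.unop.2 i)
          naturality := fun V W (f : V ⟶ W) =>
            (X.presheaf.germ_res f.unop.hom _ _).trans (Category.comp_id _).symm } }

lemma germ_toRing (i : G.ι) {V : X.Opens} (hV : Dense (V : Set X)) (s : Γ(X, V)) :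
    G.germ i (RatFun.toRing X V hV s) = X.presheaf.germ V (G.pt i) (G.mem_of_dense hV i) s := by
  unfold germ RatFun.toRing
  rw [← CommRingCat.comp_apply, Limits.colimit.ι_desc]

/-- The germs at all points of the family. -/
noncomputable def toPi : (RatFun.ring X : Type u) →+* ∀ i, X.presheaf.stalk (G.pt i) :=
  RingHom.pi fun i => (G.germ i).hom

lemma toPi_bijective : Function.Bijective G.toPi := by
  refine ⟨fun a b h => ?_, fun g => ?_⟩
  · obtain ⟨V, hV, s, rfl⟩ := exists_rep a
    obtain ⟨V', hV', t, rfl⟩ := exists_rep b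
    have hd : Dense ((V ⊓ V' : X.Opens) : Set X) := hV.inter_of_isOpen_left hV' V.2
    rw [← toRing_res hV hd inf_le_left, ← toRing_res hV' hd inf_le_right] at h ⊢
    set s₀ := X.presheaf.map (homOfLE (inf_le_left : V ⊓ V' ≤ V)).op s
    set t₀ := X.presheaf.map (homOfLE (inf_le_right : V ⊓ V' ≤ V')).op t
    have h' : ∀ i, ∃ (W : X.Opens) (_ : G.pt i ∈ W) (e : W ≤ V ⊓ V'),
        X.presheaf.map (homOfLE e).op s₀ = X.presheaf.map (homOfLE e).op t₀ := fun i => by
      have hi := congrFun h i
      change G.germ i _ = G.germ i _ at hi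
      rw [G.germ_toRing, G.germ_toRing] at hi
      obtain ⟨W, hW, e₁, e₂, he⟩ := X.presheaf.germ_eq _ _ _ _ _ hi
      exact ⟨W, hW, leOfHom e₁, he⟩
    choose W hW e he using h'
    have hd' : Dense ((iSup W : X.Opens) : Set X) :=
      G.dense_of_mem fun i => Opens.mem_iSup.2 ⟨i, hW i⟩
    rw [← toRing_res hd hd' (iSup_le e) s₀, ← toRing_res hd hd' (iSup_le e) t₀]
    congr 1
    refine X.sheaf.eq_of_locally_eq' W (iSup W) (fun i => homOfLE (le_iSup W i)) le_rfl _ _ fun i => ?_
    change (X.presheaf.map _ ≫ X.presheaf.map _) s₀ = (X.presheaf.map _ ≫ X.presheaf.map _) t₀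
    rw [← X.presheaf.map_comp]
    exact he i
  · have hg : ∀ i, ∃ (W : X.Opens) (hW : G.pt i ∈ W) (_ : W ≤ G.nhd i) (s : Γ(X, W)),
        X.presheaf.germ W (G.pt i) hW s = g i := fun i => by
      obtain ⟨W, hW, s, hs⟩ := X.presheaf.exists_germ_eq (g i)
      refine ⟨W ⊓ G.nhd i, ⟨hW, G.mem i⟩, inf_le_right,
        X.presheaf.map (homOfLE (inf_le_left : W ⊓ G.nhd i ≤ W)).op s, ?_⟩
      rw [TopCat.Presheaf.germ_res_apply]
      exact hs
    choose W hW hWn s hs using hg
    obtain ⟨t, ht, -⟩ := X.sheaf.existsUnique_gluing W s (by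
      intro i j
      by_cases hij : i = j
      · subst hij; rfl
      · have hb : W i ⊓ W j = ⊥ := le_bot_iff.1 ((inf_le_inf (hWn i) (hWn j)).trans (G.disj i j hij).le)
        haveI : Subsingleton (X.sheaf.1.obj (op (W i ⊓ W j))) := by
          rw [hb]
          exact CommRingCat.subsingleton_of_isTerminal X.sheaf.isTerminalOfEmpty
        exact Subsingleton.elim _ _)
    refine ⟨RatFun.toRing X (iSup W) (G.dense_of_mem fun i => Opens.mem_iSup.2 ⟨i, hW i⟩) t,
      funext fun i => ?_⟩
    change G.germ i _ = _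
    rw [G.germ_toRing, ← hs i, ← ht i]
    exact (TopCat.Presheaf.germ_res_apply X.presheaf _ _ _ _).symm

/-- The rational functions are the product of the stalks. -/
noncomputable def iso : RatFun.ring X ≅ CommRingCat.of (∀ i, X.presheaf.stalk (G.pt i)) :=
  (RingEquiv.ofBijective G.toPi G.toPi_bijective).toCommRingCatIso

end GenericFamily

/-- A stalk at a point without proper generization has a one-point spectrum. -/
lemma krullDimLE_zero_stalk {x : X} (hx : ∀ y : X, y ⤳ x → y = x) :
    Ring.KrullDimLE 0 (X.presheaf.stalk x) := by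
  haveI : Subsingleton (PrimeSpectrum (X.presheaf.stalk x)) := ⟨fun p q => by
    have h : ∀ r : Spec (X.presheaf.stalk x), X.fromSpecStalk x r = x := fun r => by
      refine hx _ ?_
      have := Set.mem_range_self (f := X.fromSpecStalk x) r
      rwa [Scheme.range_fromSpecStalk] at this
    exact (X.fromSpecStalk x).isEmbedding.injective ((h p).trans (h q).symm)⟩
  exact Ring.KrullDimLE.mk₀ fun I hI => by
    rw [show I = IsLocalRing.maximalIdeal _ from congrArg PrimeSpectrum.asIdeal
      (Subsingleton.elim (⟨I, hI⟩ : PrimeSpectrum _) (IsLocalRing.closedPoint _))]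
    infer_instance

lemma isArtinianRing_stalk [IsLocallyNoetherian X] {x : X} (hx : ∀ y : X, y ⤳ x → y = x) :
    IsArtinianRing (X.presheaf.stalk x) :=
  haveI := krullDimLE_zero_stalk hx
  isArtinianRing_iff_krullDimLE_zero.2 inferInstance

end Groth.Agent.RatFunLib
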